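import Groth.Agent.L21.AicCoh.Val
import Groth.Agent.L27.EtSite.HofPush
import Groth.Agent.L27.LimCoh.HMaps
import Groth.Agent.L27.ExtZero.ShriekExact
import Groth.Agent.L27.EtZar.Flasque
import Groth.Agent.S0071
import Mathlib.Topology.LocallyConstant.Basic
import Mathlib.Topology.ContinuousOn

/-! # Degree one classes killed on two closed subschemes -/

set_option autoImplicit false

universe u

open CategoryTheory CategoryTheory.Limits AlgebraicGeometry Opposite TopologicalSpace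

set_option backward.isDefEq.respectTransparency.types false
set_option linter.style.haveILetI false
set_option linter.unusedSectionVars false

namespace Groth.L21.AicGlue

open Groth.L27 Groth.L27.ConstSect Groth.L21.AicVal

variable {Z Z' : Scheme.{u}} {A : AddCommGrpCat.{u + 1}} (a : Z' ⟶ Z) [IsClosedImmersion a]

/-- The open piece of the closed subscheme in the ambient scheme. -/
noncomputable def emb (O : Z.Opens) : ((EtCoh.bc a).obj (MV.oE O)).left ⟶ Z := pr a (MV.oE O) ≫ O.ι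

theorem isEmbedding_emb (O : Z.Opens) : Topology.IsEmbedding (emb a O).base := by
  haveI : IsClosedImmersion (pr a (MV.oE O)) :=
    MorphismProperty.pullback_fst (P := @IsClosedImmersion) _ _ inferInstance
  exact O.ι.isEmbedding.comp (pr a (MV.oE O)).isEmbedding

theorem range_emb (O : Z.Opens) : Set.range (emb a O).base = (O : Set Z) ∩ Set.range a.base := by
  ext x
  constructor
  · rintro ⟨y, rfl⟩
    refine ⟨(Scheme.Opens.range_ι O).subset ⟨_, rfl⟩, ?_⟩
    exact (Scheme.Pullback.range_fst (MV.oE O).hom a).subset ⟨y, rfl⟩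
  · rintro ⟨hx, ha⟩
    obtain ⟨w, rfl⟩ := (Scheme.Opens.range_ι O).symm.subset hx
    obtain ⟨y, hy⟩ := (Scheme.Pullback.range_fst (MV.oE O).hom a).symm.subset (show w ∈ O.ι ⁻¹' Set.range a.base from ha)
    exact ⟨y, congrArg O.ι.base hy⟩

/-- The point over a point of the closed subset. -/
noncomputable def pt (O : Z.Opens) (x : Z) (hx : x ∈ O) (ha : x ∈ Set.range a.base) :
    ((EtCoh.bc a).obj (MV.oE O)).left :=
  ((range_emb a O).symm.subset ⟨hx, ha⟩).choose

theorem emb_pt (O : Z.Opens) (x : Z) (hx : x ∈ O) (ha : x ∈ Set.range a.base) :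
    (emb a O).base (pt a O x hx ha) = x :=
  ((range_emb a O).symm.subset ⟨hx, ha⟩).choose_spec

theorem pt_emb (O : Z.Opens) (y : ((EtCoh.bc a).obj (MV.oE O)).left) (hx : (emb a O).base y ∈ O)
    (ha : (emb a O).base y ∈ Set.range a.base) : pt a O _ hx ha = y :=
  (isEmbedding_emb a O).injective (emb_pt a O _ hx ha)

/-- Sections of the constant sheaf pushed forward, over an open. -/
abbrev Sect (O : Z.Opens) : Type (u + 1) := ((EtCoh.push a).obj (K A Z')).obj.obj (op (MV.oE O))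

/-- The value of a pushed forward section at a point of the closed subset. -/
noncomputable def vp {O : Z.Opens} (t : Sect (A := A) a O) (x : Z) (hx : x ∈ O)
    (ha : x ∈ Set.range a.base) : A :=
  val (X := Z') (A := A) (U := (EtCoh.bc a).obj (MV.oE O)) t (pt a O x hx ha)

theorem vp_sub {O : Z.Opens} (t t' : Sect (A := A) a O) (x : Z) (hx : x ∈ O) (ha : x ∈ Set.range a.base) :
    vp a (t - t') x hx ha = vp a t x hx ha - vp a t' x hx ha := val_sub _ _ _

theorem vp_res {O O' : Z.Opens} (h : O' ≤ O) (t : Sect (A := A) a O) (x : Z) (hx : x ∈ O')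
    (ha : x ∈ Set.range a.base) :
    vp a (((EtCoh.push a).obj (K A Z')).obj.map (MV.oHom h).op t) x hx ha = vp a t x (h hx) ha := by
  refine (val_map (X := Z') ((EtCoh.bc a).map (MV.oHom h)) t _).trans (congrArg _ ?_)
  refine (isEmbedding_emb a O).injective ((Eq.trans ?_ (emb_pt a O' x hx ha)).trans (emb_pt a O x (h hx) ha).symm)
  have hcomp : ((EtCoh.bc a).map (MV.oHom h)).left ≫ emb a O = emb a O' :=
    (Category.assoc _ _ _).symm.trans ((congrArg (· ≫ O.ι) (pullback.lift_fst _ _ _)).trans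
      ((Category.assoc _ _ _).trans (congrArg (pr a (MV.oE O') ≫ ·) (Z.homOfLE_ι h))))
  exact congr($(hcomp).base (pt a O' x hx ha))

theorem vp_ext {O : Z.Opens} {t t' : Sect (A := A) a O}
    (h : ∀ x hx ha, vp a t x hx ha = vp a t' x hx ha) : t = t' :=
  val_ext (X := Z') (U := (EtCoh.bc a).obj (MV.oE O)) fun y => by
    have hm := (range_emb a O).subset ⟨y, rfl⟩
    have := h _ hm.1 hm.2
    simp only [vp, pt_emb] at this
    exact this

theorem vp_cmp {O : Z.Opens} (s : (K A Z).obj.obj (op (MV.oE O))) (x : Z) (hx : x ∈ O)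
    (ha : x ∈ Set.range a.base) (w : (MV.oE O).left) (hw : O.ι.base w = x) :
    vp a ((cmp A a).hom.app (op (MV.oE O)) s) x hx ha = val s w := by
  refine (val_cmp a (MV.oE O) s _).trans (congrArg _ (O.ι.isEmbedding.injective ?_))
  exact (emb_pt a O x hx ha).trans hw.symm

theorem isLocallyConstant_vp {O : Z.Opens} (t : Sect (A := A) a O) :
    IsLocallyConstant fun x : {x : Z // x ∈ O ∧ x ∈ Set.range a.base} => vp a t x.1 x.2.1 x.2.2 := by
  have hcont : Continuous fun x : {x : Z // x ∈ O ∧ x ∈ Set.range a.base} => pt a O x.1 x.2.1 x.2.2 := by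
    rw [(isEmbedding_emb a O).continuous_iff]
    exact continuous_subtype_val.congr fun x => (emb_pt a O x.1 x.2.1 x.2.2).symm
  exact (isLocallyConstant_val (X := Z') (A := A) (U := (EtCoh.bc a).obj (MV.oE O)) t).comp_continuous hcont

theorem exists_vp_eq (O : Z.Opens) (c : ↥(Set.range a.base) → A) (hc : IsLocallyConstant c) :
    ∃ t : Sect (A := A) a O, ∀ x hx ha, vp a t x hx ha = c ⟨x, ha⟩ := by
  have hm : ∀ y, (emb a O).base y ∈ Set.range a.base := fun y => ((range_emb a O).subset ⟨y, rfl⟩).2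
  obtain ⟨t, ht⟩ := exists_val_eq (X := Z') (A := A) ((EtCoh.bc a).obj (MV.oE O))
    (fun y => c ⟨(emb a O).base y, hm y⟩)
    (hc.comp_continuous ((emb a O).continuous.subtype_mk hm))
  exact ⟨t, fun x hx ha => (ht _).trans (congrArg c (Subtype.ext (emb_pt a O x hx ha)))⟩

/-- Gluing locally constant functions along a closed cover. -/
theorem isLocallyConstant_of_cover {T : Type*} [TopologicalSpace T] {V : Type*} {S₁ S₂ : Set T}
    (h₁ : IsClosed S₁) (h₂ : IsClosed S₂) (hS : S₁ ∪ S₂ = Set.univ) (f : T → V)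
    (hf₁ : IsLocallyConstant fun x : S₁ => f x) (hf₂ : IsLocallyConstant fun x : S₂ => f x) :
    IsLocallyConstant f := by
  letI : TopologicalSpace V := ⊥
  haveI : DiscreteTopology V := ⟨rfl⟩
  rw [IsLocallyConstant.iff_continuous, ← continuousOn_univ, ← hS]
  exact (continuousOn_iff_continuous_restrict.2 hf₁.continuous).union_of_isClosed
    (continuousOn_iff_continuous_restrict.2 hf₂.continuous) h₁ h₂

variable {Z₁ Z₂ : Scheme.{u}} (a₁ : Z₁ ⟶ Z) (a₂ : Z₂ ⟶ Z) [IsClosedImmersion a₁] [IsClosedImmersion a₂]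

theorem map_cmp_eq_zero [PreservesFiniteLimits (EtCoh.pull a)] (n : ℕ) (e : EtCoh.H Z (K A Z) n)
    (he : EtCore.Hpull a (K A Z) n e = 0) : (EtCoh.HF Z n).map (cmp A a) e = 0 := by
  refine (EtSite.bijective_HofPush a _ (fun q hq => Groth.Agent.S0071.result a _ q hq) n).1 ?_
  have hcmp : (EtCoh.pullPushAdj a).homEquiv _ _ ((EtCore.pullConstIso a).hom.app A) = cmp A a :=
    Adjunction.homEquiv_unit _ _ _ _
  refine Eq.trans ?_ (map_zero _).symm
  rw [← hcmp, ← LimCoh.HpullThen_eq, LimCoh.HpullThen_apply, he]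
  exact map_zero _

theorem eq_zero_of_cover_one (hS : ∀ z : Z, EtCoh.IsStrictlyHenselianLocalRing (Z.presheaf.stalk z))
    (hab : Set.range a₁.base ∪ Set.range a₂.base = Set.univ)
    [PreservesFiniteLimits (EtCoh.pull a₁)] [PreservesFiniteLimits (EtCoh.pull a₂)]
    (hsplit : ∀ d : ↥(Set.range a₁.base ∩ Set.range a₂.base) → A, IsLocallyConstant d →
      ∃ (c₁ : ↥(Set.range a₁.base) → A) (c₂ : ↥(Set.range a₂.base) → A),
        IsLocallyConstant c₁ ∧ IsLocallyConstant c₂ ∧ ∀ x, d x = c₁ ⟨x.1, x.2.1⟩ - c₂ ⟨x.1, x.2.2⟩)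
    (ξ : EtCoh.H Z (K A Z) 1) (h1 : EtCore.Hpull a₁ (K A Z) 1 ξ = 0)
    (h2 : EtCore.Hpull a₂ (K A Z) 1 ξ = 0) : ξ = 0 := by
  classical
  let P₁ := (EtCoh.push a₁).obj (K A Z₁)
  let P₂ := (EtCoh.push a₂).obj (K A Z₂)
  let u : K A Z ⟶ P₁ ⊞ P₂ := biprod.lift (cmp A a₁) (cmp A a₂)
  have hu1 : ∀ (U : Z.Etale) (s : (K A Z).obj.obj (op U)),
      (biprod.fst : P₁ ⊞ P₂ ⟶ P₁).hom.app (op U) (u.hom.app (op U) s) = (cmp A a₁).hom.app (op U) s := fun U s =>
    congr($(biprod.lift_fst (cmp A a₁) (cmp A a₂)).hom.app (op U) s)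
  have hu2 : ∀ (U : Z.Etale) (s : (K A Z).obj.obj (op U)),
      (biprod.snd : P₁ ⊞ P₂ ⟶ P₂).hom.app (op U) (u.hom.app (op U) s) = (cmp A a₂).hom.app (op U) s := fun U s =>
    congr($(biprod.lift_snd (cmp A a₁) (cmp A a₂)).hom.app (op U) s)
  haveI : Mono u := by
    haveI : ∀ U, Mono (u.hom.app U) := fun U => (AddCommGrpCat.mono_iff_injective _).2
      ((injective_iff_map_eq_zero _).2 fun s hs => val_ext fun x => by
        rw [val_zero]
        rcases hab.symm.subset (Set.mem_univ (U.unop.hom x)) with hx | hx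
        · obtain ⟨y, rfl⟩ := (Scheme.Pullback.range_fst U.unop.hom a₁).symm.subset
            (show x ∈ U.unop.hom ⁻¹' _ from hx)
          refine (val_cmp a₁ U.unop s y).symm.trans ?_
          rw [← hu1, hs, map_zero]
          exact val_zero _
        · obtain ⟨y, rfl⟩ := (Scheme.Pullback.range_fst U.unop.hom a₂).symm.subset
            (show x ∈ U.unop.hom ⁻¹' _ from hx)
          refine (val_cmp a₂ U.unop s y).symm.trans ?_
          rw [← hu2, hs, map_zero]
          exact val_zero _)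
    exact (sheafToPresheaf _ _).mono_of_mono_map (NatTrans.mono_of_mono_app (α := u.hom))
  let S := ShortComplex.mk u (cokernel.π u) (cokernel.condition u)
  have hSE : S.ShortExact := { exact := ShortComplex.exact_cokernel _ }
  haveI := hSE.epi_g
  -- the class dies in the middle term
  have hm : (EtCoh.HF Z 1).map u ξ = 0 := by
    have hu : u = cmp A a₁ ≫ biprod.inl + cmp A a₂ ≫ biprod.inr := biprod.lift_eq
    rw [hu, LimCoh.HF_map_eq, Sheaf.H.map_add_apply, Sheaf.H.map_comp_apply, Sheaf.H.map_comp_apply,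
      ← LimCoh.HF_map_eq (cmp A a₁), ← LimCoh.HF_map_eq (cmp A a₂), map_cmp_eq_zero a₁ 1 ξ h1,
      map_cmp_eq_zero a₂ 1 ξ h2]
    exact (congrArg₂ (· + ·) (map_zero _) (map_zero _)).trans (add_zero _)
  obtain ⟨γ, rfl⟩ := LimCoh.exists_δH hSE 0 ξ hm
  suffices h : ∃ t, S.g.hom.app (op (EtCoh.top Z)) t = LimCoh.secEq S.X₃ γ by
    obtain ⟨t, ht⟩ := h
    have hγ : γ = (EtCoh.HF Z 0).map S.g ((LimCoh.secEq S.X₂).symm t) := (LimCoh.secEq S.X₃).injective (by
      rw [LimCoh.secEq_map, AddEquiv.apply_symm_apply]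
      exact ht.symm)
    rw [hγ]
    exact LimCoh.δH_map_g hSE 0 _
  let q : S.X₃.obj.obj (op (MV.oE ⊤)) := S.X₃.obj.map (MV.oTop ⊤).op (LimCoh.secEq S.X₃ γ)
  suffices h : ∃ t, S.g.hom.app (op (MV.oE ⊤)) t = q by
    obtain ⟨t, ht⟩ := h
    let k : EtCoh.top Z ⟶ MV.oE (⊤ : Z.Opens) :=
      MorphismProperty.Over.homMk (Scheme.topIso Z).inv (Iso.inv_hom_id (Scheme.topIso Z))
    refine ⟨S.X₂.obj.map k.op t, ?_⟩
    rw [NatTrans.naturality_apply, ht, ← Functor.map_comp_apply, ← op_comp,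
      (EtCore.topIsTerminal Z).hom_ext (k ≫ MV.oTop ⊤) (𝟙 _)]
    simp
  -- coordinates
  let p₁ : ∀ {O : Z.Opens}, S.X₂.obj.obj (op (MV.oE O)) → Sect (A := A) a₁ O := fun {O} t =>
    (biprod.fst : P₁ ⊞ P₂ ⟶ P₁).hom.app (op (MV.oE O)) t
  let p₂ : ∀ {O : Z.Opens}, S.X₂.obj.obj (op (MV.oE O)) → Sect (A := A) a₂ O := fun {O} t =>
    (biprod.snd : P₁ ⊞ P₂ ⟶ P₂).hom.app (op (MV.oE O)) t
  let δ : ∀ {O : Z.Opens}, S.X₂.obj.obj (op (MV.oE O)) → ∀ x : Z, x ∈ O → x ∈ Set.range a₁.base →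
      x ∈ Set.range a₂.base → A := fun {O} t x hx hxa hxb => vp a₁ (p₁ t) x hx hxa - vp a₂ (p₂ t) x hx hxb
  have hδres : ∀ {O O' : Z.Opens} (h : O' ≤ O) (t : S.X₂.obj.obj (op (MV.oE O))) x hx hxa hxb,
      δ (S.X₂.obj.map (MV.oHom h).op t) x hx hxa hxb = δ t x (h hx) hxa hxb := by
    intro O O' h t x hx hxa hxb
    simp only [δ, p₁, p₂]
    erw [NatTrans.naturality_apply, NatTrans.naturality_apply, vp_res, vp_res]
  have hδker : ∀ {O : Z.Opens} (t : S.X₂.obj.obj (op (MV.oE O))),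
      S.g.hom.app (op (MV.oE O)) t = 0 → ∀ x hx hxa hxb, δ t x hx hxa hxb = 0 := by
    intro O t ht x hx hxa hxb
    obtain ⟨s, rfl⟩ := Supp.exists_preimage hSE _ _ ht
    obtain ⟨w, hw⟩ := (Scheme.Opens.range_ι O).symm.subset hx
    simp only [δ, p₁, p₂]
    erw [hu1, hu2, vp_cmp a₁ s x hx hxa w hw, vp_cmp a₂ s x hx hxb w hw, sub_self]
  have hloc : ∀ x : Z, ∃ (O : Z.Opens) (h : O ≤ ⊤) (t : S.X₂.obj.obj (op (MV.oE O))),
      x ∈ O ∧ S.g.hom.app (op (MV.oE O)) t = EtFlasque.res S.X₃ h q := fun x =>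
    EtFlasque.exists_local_lift hS S.g q (Opens.mem_top x)
  choose O hO t hxO ht using hloc
  have hwd : ∀ (i j x : Z) (hi : x ∈ O i) (hj : x ∈ O j) hxa hxb,
      δ (t i) x hi hxa hxb = δ (t j) x hj hxa hxb := by
    intro i j x hi hj hxa hxb
    have hk : S.g.hom.app (op (MV.oE (O i ⊓ O j))) (S.X₂.obj.map (MV.oHom inf_le_left).op (t i) -
        S.X₂.obj.map (MV.oHom inf_le_right).op (t j)) = 0 := by
      rw [map_sub, NatTrans.naturality_apply, NatTrans.naturality_apply, ht, ht]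
      exact sub_eq_zero.2 ((EtFlasque.res_res _ inf_le_left (hO i) q).trans
        (EtFlasque.res_res _ inf_le_right (hO j) q).symm)
    have h0 := hδker _ hk x ⟨hi, hj⟩ hxa hxb
    rw [← hδres inf_le_left (t i) x ⟨hi, hj⟩ hxa hxb, ← hδres inf_le_right (t j) x ⟨hi, hj⟩ hxa hxb,
      ← sub_eq_zero, ← h0]
    simp only [δ, p₁, p₂]
    erw [map_sub, map_sub, vp_sub, vp_sub]
    abel
  let d : ↥(Set.range a₁.base ∩ Set.range a₂.base) → A := fun x => δ (t x.1) x.1 (hxO x.1) x.2.1 x.2.2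
  have hd : IsLocallyConstant d := by
    refine IsLocallyConstant.iff_exists_open d |>.2 fun x => ?_
    have L1 := (isLocallyConstant_vp a₁ (p₁ (t x.1))).comp_continuous
      (f := fun y : {y : ↥(Set.range a₁.base ∩ Set.range a₂.base) // y.1 ∈ O x.1} =>
        (⟨y.1.1, y.2, y.1.2.1⟩ : {z : Z // z ∈ O x.1 ∧ z ∈ Set.range a₁.base}))
      ((continuous_subtype_val.comp continuous_subtype_val).subtype_mk _)
    have L2 := (isLocallyConstant_vp a₂ (p₂ (t x.1))).comp_continuous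
      (f := fun y : {y : ↥(Set.range a₁.base ∩ Set.range a₂.base) // y.1 ∈ O x.1} =>
        (⟨y.1.1, y.2, y.1.2.2⟩ : {z : Z // z ∈ O x.1 ∧ z ∈ Set.range a₂.base}))
      ((continuous_subtype_val.comp continuous_subtype_val).subtype_mk _)
    obtain ⟨W, hW, hxW, hWc⟩ := (L1.sub L2).exists_open ⟨x, hxO x.1⟩
    refine ⟨Subtype.val '' W, ((O x.1).2.preimage continuous_subtype_val).isOpenMap_subtype_val W hW,
      ⟨_, hxW, rfl⟩, ?_⟩
    rintro _ ⟨y, hy, rfl⟩
    exact (hwd y.1.1 x.1 y.1.1 (hxO _) y.2 y.1.2.1 y.1.2.2).trans (hWc y hy)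
  obtain ⟨c₁, c₂, hc₁, hc₂, hc⟩ := hsplit d hd
  obtain ⟨s₁, hs₁⟩ := exists_vp_eq a₁ ⊤ c₁ hc₁
  obtain ⟨s₂, hs₂⟩ := exists_vp_eq a₂ ⊤ c₂ hc₂
  let t₀ : S.X₂.obj.obj (op (MV.oE ⊤)) := (biprod.inl : P₁ ⟶ P₁ ⊞ P₂).hom.app (op (MV.oE ⊤)) s₁ +
    (biprod.inr : P₂ ⟶ P₁ ⊞ P₂).hom.app (op (MV.oE ⊤)) s₂
  have ht₁ : p₁ t₀ = s₁ := by
    simp only [p₁, t₀]
    erw [map_add, ← ConcreteCategory.comp_apply, ← ConcreteCategory.comp_apply,
      congr($(biprod.inl_fst (X := P₁) (Y := P₂)).hom.app (op (MV.oE (⊤ : Z.Opens))) s₁),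
      congr($(biprod.inr_fst (X := P₁) (Y := P₂)).hom.app (op (MV.oE (⊤ : Z.Opens))) s₂)]
    exact add_zero _
  have ht₂ : p₂ t₀ = s₂ := by
    simp only [p₂, t₀]
    erw [map_add, ← ConcreteCategory.comp_apply, ← ConcreteCategory.comp_apply,
      congr($(biprod.inl_snd (X := P₁) (Y := P₂)).hom.app (op (MV.oE (⊤ : Z.Opens))) s₁),
      congr($(biprod.inr_snd (X := P₁) (Y := P₂)).hom.app (op (MV.oE (⊤ : Z.Opens))) s₂)]
    exact zero_add _
  refine ⟨t₀, EtFlasque.ext_opens S.X₃ O hO (fun x _ => ⟨x, hxO x⟩) fun i => ?_⟩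
  rw [← ht i, ← EtFlasque.res_nat]
  refine Eq.symm ?_
  rw [← sub_eq_zero, ← map_sub]
  let r := S.X₂.obj.map (MV.oHom (hO i)).op t₀
  let e₁ := p₁ (t i) - p₁ r
  let e₂ := p₂ (t i) - p₂ r
  have he : ∀ x (hx : x ∈ O i) hxa hxb, vp a₁ e₁ x hx hxa = vp a₂ e₂ x hx hxb := by
    intro x hx hxa hxb
    have h0 : δ r x hx hxa hxb = d ⟨x, hxa, hxb⟩ := by
      rw [hδres]
      simp only [δ]
      rw [ht₁, ht₂, hs₁, hs₂, hc]
    have h3 : δ (t i) x hx hxa hxb = δ r x hx hxa hxb := by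
      rw [h0]
      exact hwd i x x hx (hxO x) hxa hxb
    simp only [δ] at h3
    rw [vp_sub, vp_sub]
    exact sub_eq_sub_iff_sub_eq_sub.2 h3
  let F : ↥(O i : Set Z) → A := fun x => if h : x.1 ∈ Set.range a₁.base then vp a₁ e₁ x.1 x.2 h else
    vp a₂ e₂ x.1 x.2 ((hab.symm.subset (Set.mem_univ x.1)).resolve_left h)
  have hF : IsLocallyConstant F := by
    refine isLocallyConstant_of_cover (S₁ := Subtype.val ⁻¹' Set.range a₁.base)
      (S₂ := Subtype.val ⁻¹' Set.range a₂.base)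
      ((a₁.isClosedEmbedding.isClosed_range).preimage continuous_subtype_val)
      ((a₂.isClosedEmbedding.isClosed_range).preimage continuous_subtype_val)
      (by rw [← Set.preimage_union, hab, Set.preimage_univ]) F ?_ ?_
    · have L := (isLocallyConstant_vp a₁ e₁).comp_continuous
        (f := fun x : ↥(Subtype.val ⁻¹' Set.range a₁.base : Set ↥(O i : Set Z)) =>
          (⟨x.1.1, x.1.2, x.2⟩ : {z : Z // z ∈ O i ∧ z ∈ Set.range a₁.base}))
        ((continuous_subtype_val.comp continuous_subtype_val).subtype_mk _)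
      convert L using 1
      funext x
      exact dif_pos x.2
    · have L := (isLocallyConstant_vp a₂ e₂).comp_continuous
        (f := fun x : ↥(Subtype.val ⁻¹' Set.range a₂.base : Set ↥(O i : Set Z)) =>
          (⟨x.1.1, x.1.2, x.2⟩ : {z : Z // z ∈ O i ∧ z ∈ Set.range a₂.base}))
        ((continuous_subtype_val.comp continuous_subtype_val).subtype_mk _)
      convert L using 1
      funext x
      simp only [F, Function.comp_apply]
      split_ifs with h
      · exact he _ _ _ _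
      · rfl
  have hι : ∀ w : (MV.oE (O i)).left, (O i).ι.base w ∈ (O i : Set Z) := fun w =>
    (Scheme.Opens.range_ι (O i)).subset ⟨w, rfl⟩
  obtain ⟨f, hf⟩ := exists_val_eq (X := Z) (A := A) (MV.oE (O i)) (fun w => F ⟨_, hι w⟩)
    (hF.comp_continuous ((O i).ι.continuous.subtype_mk hι))
  have key : t i - r = S.f.hom.app (op (MV.oE (O i))) f := by
    have k₁ : p₁ (t i - r) = p₁ (S.f.hom.app (op (MV.oE (O i))) f) := by
      refine vp_ext a₁ fun x hx hxa => ?_
      obtain ⟨w, hw⟩ := (Scheme.Opens.range_ι (O i)).symm.subset hx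
      simp only [p₁]
      erw [map_sub, hu1, vp_cmp a₁ f x hx hxa w hw, hf]
      subst hw
      simp only [F]
      rw [dif_pos hxa]
    have k₂ : p₂ (t i - r) = p₂ (S.f.hom.app (op (MV.oE (O i))) f) := by
      refine vp_ext a₂ fun x hx hxb => ?_
      obtain ⟨w, hw⟩ := (Scheme.Opens.range_ι (O i)).symm.subset hx
      simp only [p₂]
      erw [map_sub, hu2, vp_cmp a₂ f x hx hxb w hw, hf]
      subst hw
      simp only [F]
      split_ifs with h
      · exact (he _ _ h hxb).symm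
      · rfl
    have hdec : ∀ v : S.X₂.obj.obj (op (MV.oE (O i))),
        (biprod.inl : P₁ ⟶ P₁ ⊞ P₂).hom.app _ (p₁ v) + (biprod.inr : P₂ ⟶ P₁ ⊞ P₂).hom.app _ (p₂ v) = v :=
      fun v => congr($(biprod.total (X := P₁) (Y := P₂)).hom.app (op (MV.oE (O i))) v)
    rw [← hdec (t i - r), k₁, k₂, hdec]
  rw [show EtFlasque.res S.X₂ (hO i) t₀ = r from rfl, key]
  exact congr($(S.zero).hom.app (op (MV.oE (O i))) f)

end Groth.L21.AicGlue
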