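import Groth.Agent.L21.AicCoh.Roots
import Groth.Prelude.Def_Curves
import Mathlib.RingTheory.Spectrum.Prime.Topology
import Mathlib.RingTheory.Polynomial.Cyclotomic.Basic
import Mathlib.Topology.LocallyConstant.Algebra
import Mathlib.Tactic.LinearCombination
import Mathlib.Data.Nat.Factorization.Induction

/-! # Locally constant functions on closed subsets of absolutely integrally closed spectra -/

set_option autoImplicit false

universe u

open Polynomial TopologicalSpace

namespace Groth.L21.AicCoh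

variable {A : Type u} [CommRing A]

/-- The restriction to the overlap, first set. -/
def resL {X : Type u} [TopologicalSpace X] (Z₁ Z₂ : Set X) : C(↥(Z₁ ∩ Z₂), ↥Z₁) :=
  ⟨Set.inclusion Set.inter_subset_left, continuous_inclusion _⟩

/-- The restriction to the overlap, second set. -/
def resR {X : Type u} [TopologicalSpace X] (Z₁ Z₂ : Set X) : C(↥(Z₁ ∩ Z₂), ↥Z₂) :=
  ⟨Set.inclusion Set.inter_subset_right, continuous_inclusion _⟩

theorem exists_zeta (hA : Curves.IsAIC A) (l : ℕ) [Fact l.Prime] : ∃ z : A, gs z l = 0 := by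
  rcases subsingleton_or_nontrivial A with h | h
  · exact ⟨0, Subsingleton.elim _ _⟩
  obtain ⟨z, hz⟩ := hA (cyclotomic l A) (cyclotomic.monic l A) (by
    rw [natDegree_cyclotomic]
    exact Nat.totient_pos.2 (Fact.out : l.Prime).pos)
  exact ⟨z, by simpa [cyclotomic_prime, eval_finsetSum, gs] using hz⟩

/-- The orbit index as a locally constant function. -/
theorem exists_sheet {z : A} {l : ℕ} [Fact l.Prime] (hl : gs z l = 0) (Z : Set (PrimeSpectrum A)) (y w : A)
    (hy : ∀ p ∈ Z, 1 + (z - 1) * y ∉ p.asIdeal)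
    (hw : ∀ p ∈ Z, (pol z l).eval w - (pol z l).eval y ∈ p.asIdeal) :
    ∃ c : LocallyConstant ↥Z (Fin l), ∀ p : ↥Z, w - orb z (c p) y ∈ p.1.asIdeal ∧
      ∀ k : Fin l, w - orb z k y ∈ p.1.asIdeal → k = c p := by
  have h : ∀ p : ↥Z, ∃! k : Fin l, w - orb z k y ∈ p.1.asIdeal := fun p => by
    let φ := Ideal.Quotient.mk p.1.asIdeal
    haveI : IsDomain (A ⧸ p.1.asIdeal) := Ideal.Quotient.isDomain _
    have := existsUnique_sheet (z := φ z) (l := l) (by rw [← map_gs, hl, map_zero]) (y := φ y) (w := φ w)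
      (fun h0 => hy _ p.2 (Ideal.Quotient.eq_zero_iff_mem.1 (by simpa [φ] using h0)))
      (by rw [← map_eval_pol, ← map_eval_pol]; exact Ideal.Quotient.eq.2 (hw _ p.2))
    simpa only [← map_orb, φ, Ideal.Quotient.eq] using this
  choose c hc hu using h
  refine ⟨⟨c, ?_⟩, fun p => ⟨hc p, fun k => hu p k⟩⟩
  have hcl : ∀ k, IsClosed (c ⁻¹' {k}) := fun k => by
    have : c ⁻¹' {k} = Subtype.val ⁻¹' PrimeSpectrum.zeroLocus {w - orb z k y} := by
      ext p
      simp only [Set.mem_preimage, Set.mem_singleton_iff, PrimeSpectrum.mem_zeroLocus, Set.singleton_subset_iff,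
        SetLike.mem_coe]
      exact ⟨fun h => h ▸ hc p, fun h => (hu p k h).symm⟩
    rw [this]
    exact (PrimeSpectrum.isClosed_zeroLocus _).preimage continuous_subtype_val
  refine IsLocallyConstant.iff_isOpen_fiber.2 fun k => ?_
  have : c ⁻¹' {k} = (⋃ j ∈ ({k}ᶜ : Set (Fin l)), c ⁻¹' {j})ᶜ := by
    ext p
    simp only [Set.mem_preimage, Set.mem_singleton_iff, Set.mem_compl_iff, Set.mem_iUnion, exists_prop]
    exact ⟨fun h ⟨j, hj, hj'⟩ => hj (hj'.symm.trans h), fun h => by_contra fun hne => h ⟨c p, hne, rfl⟩⟩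
  rw [this]
  exact ((Set.toFinite _).isClosed_biUnion fun j _ => hcl j).isOpen_compl

/-- A section of the twisted Kummer-Artin-Schreier torsor on the first closed set. -/
theorem exists_unit_lift (hA : Curves.IsAIC A) {z : A} {l : ℕ} [Fact l.Prime] (hl : gs z l = 0)
    (I J : Ideal A) (e : A) (he : e * e - e ∈ I ⊔ J) :
    ∃ y C : A, (∀ p : PrimeSpectrum A, I ≤ p.asIdeal → 1 + (z - 1) * y ∉ p.asIdeal) ∧
      (pol z l).eval y - C ∈ I ∧ C ∈ J ∧ e * e - e ∣ y - e := by
  obtain ⟨i₀, hi₀, b, hb, hib⟩ := Submodule.mem_sup.1 he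
  have hl2 : 2 ≤ l := (Fact.out : l.Prime).two_le
  obtain ⟨m, rfl⟩ : ∃ m, l = m + 1 := ⟨l - 1, by omega⟩
  let p₀ := 3 * e ^ 2 - 2 * e ^ 3
  let a := 1 + (z - 1) * p₀
  let g := -((3 - 2 * e) * (2 * e + 1))
  let B := (z - 1) * (e * e - e)
  obtain ⟨T, hT⟩ : a - z ∣ ∑ i ∈ Finset.range (m + 1), a ^ i := by
    rw [show ∑ i ∈ Finset.range (m + 1), a ^ i =
      ∑ i ∈ Finset.range (m + 1), (a ^ i - z ^ i) from by
        rw [Finset.sum_sub_distrib, show ∑ i ∈ Finset.range (m + 1), z ^ i = 0 from hl, sub_zero]]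
    exact Finset.dvd_sum fun i _ => sub_dvd_pow_sub_pow a z i
  let G := g * T
  have hG : a ^ (m + 1) - 1 = B * B * G := by
    rw [← geom_sum_mul, hT]
    simp only [a, p₀, B, G, g]
    ring
  let β := -(B * G)
  have h1 : a ^ m * a + β * B = 1 := by
    have := hG
    rw [pow_succ] at this
    simp only [β]
    linear_combination this
  let c := (z - 1) * b * G
  let h : A[X] := X ^ (m + 1) - C c * (C (a ^ m) * X + C β) ^ m
  have hm0 : 0 < m := by omega
  obtain ⟨r, hr⟩ : ∃ r, h.eval r = 0 := by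
    rcases subsingleton_or_nontrivial A with hs | hs
    · exact ⟨0, Subsingleton.elim _ _⟩
    have hd : (C c * (C (a ^ m) * X + C β) ^ m).natDegree ≤ m :=
      (natDegree_C_mul_le _ _).trans (natDegree_pow_le.trans
        (by simpa using Nat.mul_le_mul_left m (natDegree_linear_le (a := a ^ m) (b := β))))
    refine hA h (monic_X_pow_sub ?_) ?_
    · exact lt_of_le_of_lt degree_le_natDegree (by exact_mod_cast Nat.lt_succ_of_le hd)
    · rw [natDegree_sub_eq_left_of_natDegree_lt (by simpa using Nat.lt_succ_of_le hd)]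
      simp
  have hr' : r ^ (m + 1) = c * (a ^ m * r + β) ^ m := by
    simpa [h, sub_eq_zero] using hr
  let y := p₀ - r * (e * e - e)
  have hye : e * e - e ∣ y - e := ⟨1 - 2 * e - r, by simp only [y, p₀]; ring⟩
  obtain ⟨Q, hQ⟩ : e * e - e ∣ (pol z (m + 1)).eval y := by
    have h2 := (hye.trans (sub_dvd_eval_sub y e (pol z (m + 1)))).add
      (show e * e - e ∣ (pol z (m + 1)).eval e from by
        refine dvd_trans (dvd_of_eq ?_) (dvd_eval_pol z hl2 e)
        ring)
    rwa [sub_add_cancel] at h2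
  refine ⟨y, b * Q, fun p hp hu => ?_, ?_, J.mul_mem_right _ hb, hye⟩
  · let φ := Ideal.Quotient.mk p.asIdeal
    have hu0 : φ a = φ r * φ B := by
      have : φ (1 + (z - 1) * y) = 0 := Ideal.Quotient.eq_zero_iff_mem.2 hu
      rw [show 1 + (z - 1) * y = a - r * B by simp only [y, a, B]; ring, map_sub, sub_eq_zero, map_mul] at this
      exact this
    have hcB : φ c * φ B = φ (B * B * G) := by
      rw [← map_mul, ← sub_eq_zero, ← map_sub, Ideal.Quotient.eq_zero_iff_mem]
      have : c * B - B * B * G = -((z - 1) * B * G) * i₀ := by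
        simp only [c, B]
        linear_combination ((z - 1) * ((z - 1) * (e * e - e)) * G) * hib
      rw [this]
      exact p.asIdeal.mul_mem_left _ (hp hi₀)
    have e1 : φ a ^ (m + 1) - φ c * φ B = 1 := by
      rw [hcB, ← map_pow, ← map_sub, ← hG]
      simp
    have e2 : φ a ^ m * φ a + φ β * φ B = 1 := by
      rw [← map_pow, ← map_mul, ← map_mul, ← map_add, h1, map_one]
    have hr2 : φ r ^ (m + 1) = φ c * (φ a ^ m * φ r + φ β) ^ m := by
      simpa only [map_mul, map_pow, map_add] using congrArg φ hr'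
    have e3 : (φ B * (φ a ^ m * φ r + φ β)) ^ m = 1 := by
      rw [show φ B * (φ a ^ m * φ r + φ β) = 1 by linear_combination e2 - φ a ^ m * hu0, one_pow]
    have : φ (1 : A) = 0 := by
      rw [map_one]
      have h3 : φ a ^ (m + 1) = φ c * φ B := by
        rw [hu0, mul_pow, hr2, pow_succ (φ B)]
        rw [mul_pow] at e3
        linear_combination (φ c * φ B) * e3
      linear_combination -e1 + h3
    exact p.2.ne_top ((Ideal.eq_top_iff_one _).2 (Ideal.Quotient.eq_zero_iff_mem.1 this))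
  · rw [hQ, show (e * e - e) * Q - b * Q = Q * i₀ by rw [← hib]; ring]
    exact I.mul_mem_left _ hi₀

/-- Indicators of idempotents on the overlap are differences modulo primes. -/
theorem exists_split_idem (hA : Curves.IsAIC A) (l : ℕ) [Fact l.Prime] (I J : Ideal A) (e : A)
    (he : e * e - e ∈ I ⊔ J) :
    ∃ (c₁ : LocallyConstant ↥(PrimeSpectrum.zeroLocus (I : Set A)) (ZMod l))
      (c₂ : LocallyConstant ↥(PrimeSpectrum.zeroLocus (J : Set A)) (ZMod l)),
      ∀ p : ↥(PrimeSpectrum.zeroLocus (I : Set A) ∩ PrimeSpectrum.zeroLocus (J : Set A)),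
        (e ∈ p.1.asIdeal → c₂ (resR _ _ p) - c₁ (resL _ _ p) = 0) ∧
        (e ∉ p.1.asIdeal → c₂ (resR _ _ p) - c₁ (resL _ _ p) = 1) := by
  obtain ⟨z, hl⟩ := exists_zeta hA l
  obtain ⟨y, C₀, hy, hI, hJ, hye⟩ := exists_unit_lift hA hl I J e he
  obtain ⟨w, hw⟩ : ∃ w, (pol z l - C C₀).eval w = 0 := by
    rcases subsingleton_or_nontrivial A with hs | hs
    · exact ⟨0, Subsingleton.elim _ _⟩
    have hd : (pol z l).natDegree = l := natDegree_pol z l
    have hl0 := (Fact.out : l.Prime).pos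
    exact hA _ ((monic_pol z l).sub_of_left (lt_of_le_of_lt degree_C_le (by
      rw [(degree_eq_iff_natDegree_eq_of_pos hl0).2 hd]; exact_mod_cast hl0))) (by rw [natDegree_sub_C, hd]; exact hl0)
  rw [eval_sub, eval_C, sub_eq_zero] at hw
  obtain ⟨k₁, hk₁⟩ := exists_sheet hl (PrimeSpectrum.zeroLocus (I : Set A)) y w (fun p hp => hy p hp)
    (fun p hp => by
      rw [hw, show C₀ - (pol z l).eval y = -((pol z l).eval y - C₀) by ring]
      exact neg_mem (hp hI))
  obtain ⟨k₂, hk₂⟩ := exists_sheet hl (PrimeSpectrum.zeroLocus (J : Set A)) 0 w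
    (fun p _ => by
      rw [mul_zero, add_zero]
      exact fun h => p.2.ne_top ((Ideal.eq_top_iff_one _).2 h))
    (fun p hp => by
      rw [hw, eval_pol z l 0, Finset.prod_eq_zero (Finset.mem_range.2 (Fact.out : l.Prime).pos) (by simp), sub_zero]
      exact hp hJ)
  refine ⟨k₁.map fun k : Fin l => ((k : ℕ) : ZMod l), k₂.map fun k : Fin l => ((k : ℕ) : ZMod l), fun p => ?_⟩
  simp only [LocallyConstant.map_apply, Function.comp_apply]
  set q₁ := resL _ _ p with hq₁
  set q₂ := resR _ _ p with hq₂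
  haveI := p.1.2
  let φ := Ideal.Quotient.mk p.1.asIdeal
  have hee : e * e - e ∈ p.1.asIdeal := (sup_le (show I ≤ p.1.asIdeal from p.2.1) (show J ≤ p.1.asIdeal from p.2.2)) he
  have hy1 : φ y = φ e := Ideal.Quotient.eq.2 (Ideal.mem_of_dvd _ hye hee)
  have h₁ : φ w = orb (φ z) (k₁ q₁) (φ y) := by
    rw [← map_orb]; exact Ideal.Quotient.eq.2 (hk₁ q₁).1
  have key : ∀ n : ℕ, φ w = gs (φ z) n → ((n : ℕ) : ZMod l) = (k₂ q₂ : ℕ) := fun n hn => by
    have hlφ : gs (φ z) l = 0 := by rw [← map_gs, hl, map_zero]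
    rw [gs_mod hlφ] at hn
    have : (⟨n % l, Nat.mod_lt _ (Fact.out : l.Prime).pos⟩ : Fin l) = k₂ q₂ := by
      refine (hk₂ q₂).2 _ ?_
      rw [orb_at_zero]
      exact Ideal.Quotient.eq.1 (by rw [map_gs]; exact hn)
    rw [← this]
    exact (ZMod.natCast_mod n l).symm
  constructor
  · intro h0
    have : φ e = 0 := Ideal.Quotient.eq_zero_iff_mem.2 h0
    rw [hy1, this, orb_at_zero] at h₁
    rw [key _ h₁, sub_self]
  · intro h0
    have h01 : e - 1 ∈ p.1.asIdeal := ((p.1.2).mem_or_mem (show e * (e - 1) ∈ p.1.asIdeal by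
      rwa [show e * (e - 1) = e * e - e by ring])).resolve_left h0
    have : φ e = 1 := by rw [← map_one φ]; exact Ideal.Quotient.eq.2 h01
    rw [hy1, this, orb_at_one] at h₁
    rw [← key _ h₁, Nat.cast_add, Nat.cast_one, add_sub_cancel_left]

end Groth.L21.AicCoh
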