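import Groth.Agent.L21.AicCoh.Lift
import Mathlib.GroupTheory.OrderOfElement

/-! # Locally constant functions on the overlap of two closed sets split as differences -/

set_option autoImplicit false

universe u

open TopologicalSpace

namespace Groth.L21.AicCoh

variable {A : Type u} [CommRing A]

/-- Indicators of clopens of the overlap are differences modulo a prime. -/
theorem exists_split_clopen (hA : Curves.IsAIC A) (l : ℕ) [Fact l.Prime] {Z₁ Z₂ : Set (PrimeSpectrum A)}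
    (h₁ : IsClosed Z₁) (h₂ : IsClosed Z₂) {E : Set ↥(Z₁ ∩ Z₂)} (hE : IsClopen E) :
    ∃ (c₁ : LocallyConstant ↥Z₁ (ZMod l)) (c₂ : LocallyConstant ↥Z₂ (ZMod l)),
      ∀ p, c₂ (resR _ _ p) - c₁ (resL _ _ p) = LocallyConstant.charFn (ZMod l) hE p := by
  obtain ⟨I, rfl⟩ := (PrimeSpectrum.isClosed_iff_zeroLocus_ideal Z₁).1 h₁
  obtain ⟨J, rfl⟩ := (PrimeSpectrum.isClosed_iff_zeroLocus_ideal Z₂).1 h₂
  let q := Ideal.Quotient.mk (I ⊔ J)
  have hq : ∀ x, PrimeSpectrum.comap q x ∈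
      PrimeSpectrum.zeroLocus (I : Set A) ∩ PrimeSpectrum.zeroLocus (J : Set A) := fun x => by
    have h : I ⊔ J ≤ (PrimeSpectrum.comap q x).asIdeal := fun a ha => by
      show q a ∈ x.asIdeal
      rw [show q a = 0 from Ideal.Quotient.eq_zero_iff_mem.2 ha]
      exact zero_mem _
    exact ⟨le_sup_left.trans h, le_sup_right.trans h⟩
  obtain ⟨e', he', hEe⟩ := PrimeSpectrum.exists_idempotent_basicOpen_eq_of_isClopen
    (s := (fun x => (⟨PrimeSpectrum.comap q x, hq x⟩ :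
      ↥(PrimeSpectrum.zeroLocus (I : Set A) ∩ PrimeSpectrum.zeroLocus (J : Set A)))) ⁻¹' E)
    (hE.preimage ((PrimeSpectrum.continuous_comap q).subtype_mk hq))
  obtain ⟨e, rfl⟩ := Ideal.Quotient.mk_surjective e'
  have he : e * e - e ∈ I ⊔ J := by
    rw [← Ideal.Quotient.eq, map_mul]
    exact he'
  obtain ⟨c₁, c₂, hc⟩ := exists_split_idem hA l I J e he
  refine ⟨c₁, c₂, fun p => ?_⟩
  obtain ⟨x, hx⟩ : p.1 ∈ Set.range (PrimeSpectrum.comap q) := by
    rw [range_comap_of_surjective _ _ Ideal.Quotient.mk_surjective, Ideal.mk_ker]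
    exact sup_le (show I ≤ p.1.asIdeal from p.2.1) (show J ≤ p.1.asIdeal from p.2.2)
  have hpE : p ∈ E ↔ e ∉ p.1.asIdeal := by
    have h := Set.ext_iff.1 hEe x
    rw [Set.mem_preimage, show (⟨PrimeSpectrum.comap q x, hq x⟩ :
      ↥(PrimeSpectrum.zeroLocus (I : Set A) ∩ PrimeSpectrum.zeroLocus (J : Set A))) = p from Subtype.ext hx] at h
    rw [h, ← hx]
    rfl
  by_cases hp : p ∈ E
  · rw [(hc p).2 (hpE.1 hp), (LocallyConstant.charFn_eq_one _ p hE).2 hp]
  · rw [(hc p).1 (of_not_not fun h => hp (hpE.2 h)), (LocallyConstant.charFn_eq_zero _ p hE).2 hp]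

/-- Integral functions on the overlap are differences modulo the given integer. -/
theorem exists_split_int (hA : Curves.IsAIC A) : ∀ n : ℕ, n ≠ 0 → ∀ (Z₁ Z₂ : Set (PrimeSpectrum A)),
    IsClosed Z₁ → IsClosed Z₂ → ∀ d : LocallyConstant ↥(Z₁ ∩ Z₂) ℤ,
    ∃ (c₁ : LocallyConstant ↥Z₁ ℤ) (c₂ : LocallyConstant ↥Z₂ ℤ),
      ∀ p, (n : ℤ) ∣ d p - (c₂ (resR _ _ p) - c₁ (resL _ _ p)) := by
  intro n
  induction n using Nat.recOnMul with
  | zero => intro h; exact absurd rfl h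
  | one => intro _ Z₁ Z₂ _ _ d; exact ⟨0, 0, fun p => by simp⟩
  | prime l hl =>
    intro _ Z₁ Z₂ h₁ h₂ d
    haveI := Fact.mk hl
    let E : ZMod l → Set ↥(Z₁ ∩ Z₂) := fun j => {p | (d p : ZMod l) = j}
    have hE : ∀ j, IsClopen (E j) := fun j => (d.map fun t : ℤ => (t : ZMod l)).isLocallyConstant.isClopen_fiber j
    choose c₁ c₂ hc using fun j => exists_split_clopen hA l h₁ h₂ (hE j)
    refine ⟨(∑ j, j • c₁ j).map (fun t : ZMod l => (t.val : ℤ)),
      (∑ j, j • c₂ j).map (fun t : ZMod l => (t.val : ℤ)), fun p => ?_⟩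
    rw [← ZMod.intCast_zmod_eq_zero_iff_dvd]
    simp only [LocallyConstant.map_apply, Function.comp_apply, Int.cast_sub, Int.cast_natCast,
      ZMod.natCast_zmod_val]
    have hs : ∀ (X : Set (PrimeSpectrum A)) (c : ZMod l → LocallyConstant ↥X (ZMod l)) (x : ↥X),
        (∑ j, j • c j) x = ∑ j, j * c j x := fun X c x => by
      rw [← LocallyConstant.evalAddMonoidHom_apply x, map_sum]
      simp
    rw [hs, hs, ← Finset.sum_sub_distrib]
    simp only [← mul_sub, hc]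
    rw [Finset.sum_eq_single (d p : ZMod l)]
    · rw [(LocallyConstant.charFn_eq_one _ p (hE _)).2 (by rfl), mul_one, sub_self]
    · intro j _ hj
      rw [(LocallyConstant.charFn_eq_zero _ p (hE _)).2 (fun h => hj (Eq.symm h)), mul_zero]
    · simp
  | mul a b iha ihb =>
    intro hab Z₁ Z₂ h₁ h₂ d
    obtain ⟨ha, hb⟩ := mul_ne_zero_iff.1 hab
    obtain ⟨c₁, c₂, hc⟩ := iha ha Z₁ Z₂ h₁ h₂ d
    let q : LocallyConstant ↥(Z₁ ∩ Z₂) ℤ :=
      (d - (c₂.comap (resR _ _) - c₁.comap (resL _ _))).map fun t => t / (a : ℤ)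
    obtain ⟨b₁, b₂, hb'⟩ := ihb hb Z₁ Z₂ h₁ h₂ q
    refine ⟨c₁ + (a : ℤ) • b₁, c₂ + (a : ℤ) • b₂, fun p => ?_⟩
    have hq : (a : ℤ) * q p = d p - (c₂ (resR _ _ p) - c₁ (resL _ _ p)) := Int.mul_ediv_cancel' (hc p)
    obtain ⟨t, ht⟩ := hb' p
    refine ⟨t, ?_⟩
    simp only [LocallyConstant.coe_add, Pi.add_apply, LocallyConstant.coe_smul, Pi.smul_apply, smul_eq_mul,
      Nat.cast_mul]
    linear_combination -hq + (a : ℤ) * ht

/-- Locally constant functions on the overlap with values in a finite group are differences. -/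
theorem exists_split (hA : Curves.IsAIC A) (M : Type) [AddCommGroup M] [Finite M]
    {Z₁ Z₂ : Set (PrimeSpectrum A)} (h₁ : IsClosed Z₁) (h₂ : IsClosed Z₂) (d : LocallyConstant ↥(Z₁ ∩ Z₂) M) :
    ∃ (c₁ : LocallyConstant ↥Z₁ M) (c₂ : LocallyConstant ↥Z₂ M),
      ∀ p, d p = c₂ (resR _ _ p) - c₁ (resL _ _ p) := by
  classical
  haveI := Fintype.ofFinite M
  have hn : Nat.card M ≠ 0 := Nat.card_ne_zero.2 ⟨inferInstance, inferInstance⟩
  choose c₁ c₂ hc using fun m : M => exists_split_int hA (Nat.card M) hn Z₁ Z₂ h₁ h₂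
    (d.map fun x => if x = m then 1 else 0)
  refine ⟨∑ m, (c₁ m).map fun t => t • m, ∑ m, (c₂ m).map fun t => t • m, fun p => ?_⟩
  have hs : ∀ (X : Set (PrimeSpectrum A)) (c : M → LocallyConstant ↥X M) (x : ↥X),
      (∑ m, c m) x = ∑ m, c m x := fun X c x => by
    rw [← LocallyConstant.evalAddMonoidHom_apply x, map_sum]
    simp
  rw [hs, hs, ← Finset.sum_sub_distrib]
  simp only [LocallyConstant.map_apply, Function.comp_apply, ← sub_smul]
  have key : ∀ m, (c₂ m (resR _ _ p) - c₁ m (resL _ _ p)) • m = (if d p = m then (1 : ℤ) else 0) • m := by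
    intro m
    obtain ⟨t, ht⟩ := hc m p
    simp only [LocallyConstant.map_apply, Function.comp_apply] at ht
    rw [show (c₂ m (resR _ _ p) - c₁ m (resL _ _ p)) =
      (if d p = m then (1 : ℤ) else 0) + -t * (Nat.card M : ℤ) by linear_combination -ht, add_smul, mul_smul,
      natCast_zsmul, card_nsmul_eq_zero', smul_zero, add_zero]
  rw [Finset.sum_congr rfl fun m _ => key m]
  simp

end Groth.L21.AicCoh
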