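import Groth.Agent.L13.LocalPair.Aic
import Groth.Agent.L27.StrictCover
import Groth.Prelude.Def_EtBase
import Mathlib.AlgebraicGeometry.Stalk
import Mathlib.RingTheory.Localization.AtPrime.Basic
import Mathlib.FieldTheory.IsSepClosed

/-! # Local rings of absolutely integrally closed rings are strictly henselian -/

set_option autoImplicit false
set_option linter.style.haveILetI false
set_option backward.isDefEq.respectTransparency false

universe u

open Polynomial AlgebraicGeometry CategoryTheory

namespace Groth.L21.AicCoh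

theorem exists_root_near {A : Type u} [CommRing A] (hA : Curves.IsAIC A) (m : Ideal A) [m.IsPrime] :
    ∀ (n : ℕ) (f : A[X]), f.Monic → f.natDegree = n → ∀ a : A, f.eval a ∈ m →
      ∃ r, f.eval r = 0 ∧ r - a ∈ m := by
  intro n
  induction n with
  | zero =>
    intro f hf hd a ha
    rw [hf.natDegree_eq_zero.1 hd, eval_one] at ha
    exact absurd ((Ideal.eq_top_iff_one _).2 ha) (Ideal.IsPrime.ne_top ‹_›)
  | succ n ih =>
    intro f hf hd a ha
    haveI : Nontrivial A := ⟨⟨0, 1, fun h => (Ideal.IsPrime.ne_top ‹m.IsPrime›)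
      ((Ideal.eq_top_iff_one _).2 (h ▸ zero_mem m))⟩⟩
    obtain ⟨r, hr⟩ := hA f hf (hd ▸ Nat.succ_pos n)
    obtain ⟨g, rfl⟩ := dvd_iff_isRoot.2 hr
    have hg : g.Monic := (monic_X_sub_C r).of_mul_monic_left hf
    rw [eval_mul, eval_sub, eval_X, eval_C] at ha
    rcases Ideal.IsPrime.mem_or_mem ‹_› ha with h | h
    · exact ⟨r, hr, by rw [← neg_sub]; exact neg_mem h⟩
    · rw [(monic_X_sub_C r).natDegree_mul hg, natDegree_X_sub_C] at hd
      obtain ⟨r', hr', hra⟩ := ih g hg (by omega) a h
      exact ⟨r', by rw [eval_mul, hr', mul_zero], hra⟩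

theorem isStrictlyHenselian_of_isAIC {A : Type u} [CommRing A] [IsLocalRing A] (hA : Curves.IsAIC A) :
    EtCoh.IsStrictlyHenselianLocalRing A := by
  haveI : HenselianLocalRing A := ⟨fun f hf a ha _ => exists_root_near hA _ _ f hf rfl a ha⟩
  haveI := L13.LocalPair.isAlgClosed_of_isAIC
    (L13.LocalPair.isAIC_of_surjective (IsLocalRing.residue A) IsLocalRing.residue_surjective hA)
  exact ⟨inferInstance, inferInstance⟩

theorem isStrictlyHenselian_stalk (B : CommRingCat.{u}) (hB : Curves.IsAIC B) (x : Spec B) :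
    EtCoh.IsStrictlyHenselianLocalRing ((Spec B).presheaf.stalk x) := by
  let L := Localization.AtPrime x.asIdeal
  obtain ⟨hh, hs⟩ := isStrictlyHenselian_of_isAIC
    (L13.LocalPair.isAIC_of_isLocalization L x.asIdeal.primeCompl hB)
  exact Groth.L27.StrictCover.strictlyHenselian_of_ringEquiv
    (StructureSheaf.stalkIso B x).toRingEquiv ⟨hh, hs⟩

end Groth.L21.AicCoh
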