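import Groth.Agent.L21.AicCoh.Glue
import Groth.Agent.L21.AicCoh.Strict
import Groth.Agent.L21.AicCoh.Split
import Groth.Agent.L27.NormalSepClosed.ClosedAcyclic

/-! # Vanishing of etale cohomology with finite constant coefficients on absolutely integrally closed spectra -/

set_option autoImplicit false

universe u

open CategoryTheory CategoryTheory.Limits AlgebraicGeometry Opposite TopologicalSpace

set_option backward.isDefEq.respectTransparency.types false
set_option linter.style.haveILetI false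
set_option linter.unusedSectionVars false

namespace Groth.L21.AicCoh

open Groth.L27 Groth.L27.ClosedAcyclic

variable (M : Type) [AddCommGroup M] [Finite M]

theorem hsplit (B : CommRingCat.{u}) (hB : Curves.IsAIC B) (m I₁ I₂ : Ideal B) (h₁ : m ≤ I₁) (h₂ : m ≤ I₂)
    (d : ↥(Set.range (fac B h₁).base ∩ Set.range (fac B h₂).base) → ULift.{u + 1} M) (hd : IsLocallyConstant d) :
    ∃ (c₁ : ↥(Set.range (fac B h₁).base) → ULift.{u + 1} M) (c₂ : ↥(Set.range (fac B h₂).base) → ULift.{u + 1} M),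
      IsLocallyConstant c₁ ∧ IsLocallyConstant c₂ ∧ ∀ x, d x = c₁ ⟨x.1, x.2.1⟩ - c₂ ⟨x.1, x.2.2⟩ := by
  have hB' : Curves.IsAIC (B ⧸ m) := L13.LocalPair.isAIC_of_surjective _ Ideal.Quotient.mk_surjective hB
  let Z₁ : Set (PrimeSpectrum (B ⧸ m)) := Set.range (fac B h₁).base
  let Z₂ : Set (PrimeSpectrum (B ⧸ m)) := Set.range (fac B h₂).base
  obtain ⟨c₁, c₂, hc⟩ := exists_split hB' M (Z₁ := Z₁) (Z₂ := Z₂)
    (fac B h₁).isClosedEmbedding.isClosed_range (fac B h₂).isClosedEmbedding.isClosed_range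
    (⟨fun x => (d x).down, hd.comp ULift.down⟩ : LocallyConstant ↥(Z₁ ∩ Z₂) M)
  refine ⟨fun x => ⟨-(c₁ x)⟩, fun x => ⟨-(c₂ x)⟩, c₁.isLocallyConstant.comp fun v => (⟨-v⟩ : ULift M),
    c₂.isLocallyConstant.comp fun v => (⟨-v⟩ : ULift M), fun x => ULift.ext _ _ ?_⟩
  refine (hc x).trans ?_
  show c₂ _ - c₁ _ = -c₁ _ - -c₂ _
  rw [neg_sub_neg]
  rfl

theorem subsingleton_prime (B : CommRingCat.{u}) (hB : Curves.IsAIC B) (m : Ideal B) [m.IsPrime] (n : ℕ) :
    Subsingleton (EtCoh.H (Spec (CommRingCat.of (B ⧸ m))) (EtCoh.const _ M) (n + 1)) := by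
  haveI : IrreducibleSpace ↥(Spec (CommRingCat.of (B ⧸ m))) :=
    inferInstanceAs (IrreducibleSpace (PrimeSpectrum (B ⧸ m)))
  exact subsingleton_H_of_flasque
    (isStrictlyHenselian_stalk (CommRingCat.of (B ⧸ m))
      (L13.LocalPair.isAIC_of_surjective _ Ideal.Quotient.mk_surjective hB)) n _
    (flasque_const (AddCommGrpCat.of (ULift.{u + 1} M)))

theorem subsingleton_H : ∀ (n : ℕ) (B : CommRingCat.{u}), Curves.IsAIC B →
    Subsingleton (EtCoh.H (Spec B) (EtCoh.const (Spec B) M) (n + 1)) := by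
  intro n
  induction n using Nat.strong_induction_on with
  | _ n ih =>
  intro B hB
  refine subsingleton_of_forall_eq 0 fun ξ => ?_
  by_contra hξ
  let F := EtCoh.const (Spec B) M
  obtain ⟨m, -, hm⟩ := zorn_le_nonempty₀ {I | Survives B F (n + 1) ξ I}
    (fun c hsub hc y hy => ⟨sSup c, survives_sSup B F (n + 1) ξ c hc ⟨y, hy⟩ (fun I hI => hsub hI),
      fun I hI => le_sSup hI⟩) ⊥ (survives_bot B F (n + 1) ξ hξ)
  haveI := EtSite.preservesFiniteLimits_pull (q B m)
  have hmb : EtCore.Hpull (q B m) F (n + 1) ξ ≠ 0 := hm.prop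
  have hdie : ∀ J : Ideal B, m < J → ∀ [PreservesFiniteLimits (EtCoh.pull (q B J))],
      EtCore.Hpull (q B J) F (n + 1) ξ = 0 := fun J hJ _ => by
    by_contra hne
    exact hJ.not_ge (hm.2 (fun {_} => hne) hJ.le)
  have hinj : ∀ {W : Scheme.{u}} (f : W ⟶ Spec B), Function.Injective
      (((EtCoh.HF W (n + 1)).mapIso (EtCore.pullConst f M)).addCommGroupIsoToAddEquiv) := fun f =>
    AddEquiv.injective _
  have hkill : ∀ {W : Scheme.{u}} (f : W ⟶ Spec B), Subsingleton (EtCoh.H W (EtCoh.const W M) (n + 1)) →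
      ∀ [PreservesFiniteLimits (EtCoh.pull f)], EtCore.Hpull f F (n + 1) ξ = 0 := fun f hf _ =>
    hinj f (@Subsingleton.elim _ hf _ _)
  have hprime : m.IsPrime := by
    refine ⟨fun htop => hmb (hkill _ ?_), fun {a b} hab => ?_⟩
    · subst htop
      haveI : IsEmpty ↥(Spec (CommRingCat.of (B ⧸ (⊤ : Ideal B)))) :=
        inferInstanceAs (IsEmpty (PrimeSpectrum (B ⧸ (⊤ : Ideal B))))
      exact subsingleton_H_of_isEmpty _ _
    by_contra hnot
    push Not at hnot
    let I₁ := m ⊔ Ideal.span {a}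
    let I₂ := m ⊔ Ideal.span {b}
    have h₁ : m < I₁ := left_lt_sup.2 fun hle => hnot.1 ((Ideal.span_singleton_le_iff_mem m).1 hle)
    have h₂ : m < I₂ := left_lt_sup.2 fun hle => hnot.2 ((Ideal.span_singleton_le_iff_mem m).1 hle)
    haveI := EtSite.preservesFiniteLimits_pull (q B I₁)
    haveI := EtSite.preservesFiniteLimits_pull (q B I₂)
    haveI := EtSite.preservesFiniteLimits_pull (fac B h₁.le)
    haveI := EtSite.preservesFiniteLimits_pull (fac B h₂.le)
    have hcov : Set.range (fac B h₁.le).base ∪ Set.range (fac B h₂.le).base = Set.univ := by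
      refine Set.eq_univ_of_forall fun x => ?_
      have hmx : m ≤ ((q B m).base x).asIdeal := (range_q B m).subset ⟨x, rfl⟩
      rcases ((q B m).base x).isPrime.mem_or_mem (hmx hab) with ha | hb
      · exact Or.inl ((mem_range_fac B h₁.le x).2
          (sup_le hmx ((Ideal.span_singleton_le_iff_mem _).2 ha)))
      · exact Or.inr ((mem_range_fac B h₂.le x).2
          (sup_le hmx ((Ideal.span_singleton_le_iff_mem _).2 hb)))
    have hd₁ := (Groth.L28.EtTrace.Hpull_comp_eq_zero_iff (fac B h₁.le) (q B m) (fac_q B h₁.le) F (n + 1) ξ).2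
      (hdie I₁ h₁)
    have hd₂ := (Groth.L28.EtTrace.Hpull_comp_eq_zero_iff (fac B h₂.le) (q B m) (fac_q B h₂.le) F (n + 1) ξ).2
      (hdie I₂ h₂)
    refine hmb ?_
    cases n with
    | zero =>
      let A := AddCommGrpCat.of (ULift.{u + 1} M)
      let φ := (EtCore.pullConst (q B m) M).hom
      refine hinj (q B m) ((AicGlue.eq_zero_of_cover_one (A := A) (fac B h₁.le) (fac B h₂.le)
        (isStrictlyHenselian_stalk (CommRingCat.of (B ⧸ m))
          (L13.LocalPair.isAIC_of_surjective _ Ideal.Quotient.mk_surjective hB)) hcov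
        (hsplit M B hB m I₁ I₂ h₁.le h₂.le) _ ?_ ?_).trans (map_zero _).symm)
      · exact (LimCoh.Hpull_map _ φ 1 _).trans ((congrArg _ hd₁).trans (map_zero _))
      · exact (LimCoh.Hpull_map _ φ 1 _).trans ((congrArg _ hd₂).trans (map_zero _))
    | succ k =>
      refine ClosedCover.eq_zero_of_cover (fac B h₁.le) (fac B h₂.le) hcov
        (fac B (le_sup_right : I₂ ≤ I₁ ⊔ I₂)) (fac B (le_sup_left : I₁ ≤ I₁ ⊔ I₂)) ?_ ?_ _ (k + 1) ?_ _ hd₁ hd₂
      · refine (cancel_mono (q B m)).1 ?_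
        rw [Category.assoc, Category.assoc, fac_q, fac_q, fac_q, fac_q]
      · ext x
        have hx : (q B m).base ((fac B h₂.le).base x) = (q B I₂).base x := by
          rw [← Scheme.Hom.comp_apply, fac_q]
        refine (mem_range_fac B le_sup_right x).trans (Iff.trans ?_ (mem_range_fac B h₁.le _).symm)
        rw [hx, sup_le_iff]
        exact and_iff_left ((range_q B I₂).subset ⟨x, rfl⟩)
      · exact @Equiv.subsingleton _ _
          (((EtCoh.HF _ (k + 1)).mapIso ((EtCoh.pull _).mapIso (EtCore.pullConst (q B m) M) ≪≫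
            EtCore.pullConst _ M)).addCommGroupIsoToAddEquiv).toEquiv
          (ih k (Nat.lt_succ_self k) (CommRingCat.of (B ⧸ (I₁ ⊔ I₂)))
            (L13.LocalPair.isAIC_of_surjective _ Ideal.Quotient.mk_surjective hB))
  haveI := hprime
  exact hmb (hkill _ (subsingleton_prime M B hB m n))

end Groth.L21.AicCoh
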