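import Mathlib.Algebra.Polynomial.Roots
import Mathlib.Algebra.Polynomial.BigOperators
import Mathlib.Algebra.Polynomial.Monic
import Mathlib.Algebra.Ring.GeomSum
import Mathlib.Data.ZMod.Basic
import Mathlib.Algebra.Field.ZMod
import Mathlib.Tactic.Ring
import Mathlib.Tactic.LinearCombination

/-! # The translation orbit `x ↦ ζ x + 1` of a root of unity -/

set_option autoImplicit false

open Finset Polynomial

namespace Groth.L21.AicCoh

variable {D : Type*} [CommRing D]

/-- Partial geometric sums. -/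
def gs (z : D) (k : ℕ) : D := ∑ i ∈ range k, z ^ i

/-- The orbit of `y`. -/
def orb (z : D) (k : ℕ) (y : D) : D := z ^ k * y + gs z k

/-- The polynomial vanishing on the orbit of zero. -/
noncomputable def pol (z : D) (l : ℕ) : D[X] := ∏ k ∈ range l, (X - C (gs z k))

@[simp] theorem gs_zero (z : D) : gs z 0 = 0 := by simp [gs]

@[simp] theorem gs_one (z : D) : gs z 1 = 1 := by simp [gs]

theorem gs_succ (z : D) (k : ℕ) : gs z (k + 1) = z * gs z k + 1 := geom_sum_succ

theorem gs_add (z : D) (k d : ℕ) : gs z (k + d) = gs z k + z ^ k * gs z d := by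
  simp only [gs, sum_range_add, pow_add, mul_sum]

theorem gs_mul_sub (z : D) (k : ℕ) : gs z k * (z - 1) = z ^ k - 1 := geom_sum_mul z k

theorem map_gs {E : Type*} [CommRing E] (φ : D →+* E) (z : D) (k : ℕ) : φ (gs z k) = gs (φ z) k := by
  simp [gs, map_sum]

theorem map_orb {E : Type*} [CommRing E] (φ : D →+* E) (z : D) (k : ℕ) (y : D) :
    φ (orb z k y) = orb (φ z) k (φ y) := by
  simp [orb, map_gs]

theorem eval_pol (z : D) (l : ℕ) (x : D) : (pol z l).eval x = ∏ k ∈ range l, (x - gs z k) := by
  simp [pol, eval_prod]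

theorem map_eval_pol {E : Type*} [CommRing E] (φ : D →+* E) (z : D) (l : ℕ) (x : D) :
    φ ((pol z l).eval x) = (pol (φ z) l).eval (φ x) := by
  simp [eval_pol, map_prod, map_gs]

theorem monic_pol (z : D) (l : ℕ) : (pol z l).Monic := monic_prod_of_monic _ _ fun _ _ => monic_X_sub_C _

theorem natDegree_pol [Nontrivial D] (z : D) (l : ℕ) : (pol z l).natDegree = l := by
  rw [pol, natDegree_prod_of_monic _ _ fun _ _ => monic_X_sub_C _]
  simp

variable {z : D} {l : ℕ}

theorem pow_eq_one (hl : gs z l = 0) : z ^ l = 1 := by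
  have h := gs_mul_sub z l
  rw [hl, zero_mul] at h
  exact sub_eq_zero.1 h.symm

theorem gs_mod (hl : gs z l = 0) (n : ℕ) : gs z n = gs z (n % l) := by
  have h : ∀ q r, gs z (l * q + r) = gs z r := fun q => by
    induction q with
    | zero => simp
    | succ q ih =>
      intro r
      rw [show l * (q + 1) + r = l + (l * q + r) by ring, gs_add, hl, pow_eq_one hl, ih, zero_add, one_mul]
  conv_lhs => rw [← Nat.div_add_mod n l]
  exact h _ _

theorem isUnit_gs [Fact l.Prime] (hl : gs z l = 0) {d : ℕ} (hd0 : 0 < d) (hd : d < l) : IsUnit (gs z d) := by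
  have h0 : (d : ZMod l) ≠ 0 := by
    rw [Ne, ZMod.natCast_eq_zero_iff]
    exact fun h => absurd (Nat.le_of_dvd hd0 h) (not_le.2 hd)
  let e := ((d : ZMod l)⁻¹).val
  have he : (d * e) % l = 1 := by
    rw [← ZMod.val_natCast, Nat.cast_mul, ZMod.natCast_zmod_val, mul_inv_cancel₀ h0, ZMod.val_one]
  have hm : ∀ n : ℕ, gs z (d * n) = gs z d * gs (z ^ d) n := fun n => by
    induction n with
    | zero => simp
    | succ n ih => rw [mul_add, mul_one, gs_add, ih, pow_mul, gs, gs, gs, geom_sum_succ' (x := z ^ d)]; ring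
  refine IsUnit.of_mul_eq_one (gs (z ^ d) e) ?_
  rw [← hm, gs_mod hl, he, gs_one]

theorem orb_succ (z : D) (k : ℕ) (y : D) : orb z (k + 1) y = z * orb z k y + 1 := by
  rw [orb, orb, gs_succ]; ring

@[simp] theorem orb_zero (z : D) (y : D) : orb z 0 y = y := by simp [orb]

theorem orb_at_zero (z : D) (k : ℕ) : orb z k 0 = gs z k := by simp [orb]

theorem orb_at_one (z : D) (k : ℕ) : orb z k 1 = gs z (k + 1) := by
  rw [orb, gs_add, gs_one, mul_one, add_comm]

theorem eval_pol_shift (hl : gs z l = 0) (y : D) : (pol z l).eval (z * y + 1) = (pol z l).eval y := by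
  cases l with
  | zero => simp [pol]
  | succ m =>
    have hz := pow_eq_one hl
    rw [gs_succ] at hl
    rw [eval_pol, eval_pol, prod_range_succ', prod_range_succ, gs_zero, sub_zero]
    have h1 : ∀ k ∈ range m, z * y + 1 - gs z (k + 1) = z * (y - gs z k) := fun k _ => by rw [gs_succ]; ring
    rw [prod_congr rfl h1, prod_mul_distrib, prod_const, card_range,
      show z * y + 1 = z * (y - gs z m) by linear_combination hl]
    rw [show z ^ m * (∏ k ∈ range m, (y - gs z k)) * (z * (y - gs z m)) =
      z ^ (m + 1) * ((∏ k ∈ range m, (y - gs z k)) * (y - gs z m)) by rw [pow_succ]; ring, hz, one_mul]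

theorem eval_pol_orb (hl : gs z l = 0) (k : ℕ) (y : D) : (pol z l).eval (orb z k y) = (pol z l).eval y := by
  induction k with
  | zero => simp
  | succ k ih => rw [orb_succ, eval_pol_shift hl, ih]

theorem orb_injOn [IsDomain D] [Fact l.Prime] (hl : gs z l = 0) {y : D} (hy : 1 + (z - 1) * y ≠ 0)
    {k m : ℕ} (hk : k < l) (hm : m < l) (h : orb z k y = orb z m y) : k = m := by
  wlog hkm : k ≤ m generalizing k m
  · exact (this hm hk h.symm (le_of_not_ge hkm)).symm
  by_contra hne
  obtain ⟨d, rfl⟩ := Nat.exists_eq_add_of_le hkm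
  have hd : IsUnit (gs z d) := isUnit_gs hl (by omega) (by omega)
  have hz : z ≠ 0 := fun h0 => by
    have := pow_eq_one hl
    rw [h0, zero_pow (Fact.out : l.Prime).ne_zero] at this
    exact zero_ne_one this
  have h' : z ^ k * (gs z d * (1 + (z - 1) * y)) = 0 := by
    have e := gs_mul_sub z d
    simp only [orb, gs_add, pow_add] at h
    linear_combination -h + (z ^ k * y) * e
  rcases mul_eq_zero.1 h' with h1 | h1
  · exact hz (pow_eq_zero_iff'.1 h1).1
  · exact (mul_eq_zero.1 h1).elim hd.ne_zero hy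

theorem existsUnique_sheet [IsDomain D] [Fact l.Prime] (hl : gs z l = 0) {y w : D}
    (hy : 1 + (z - 1) * y ≠ 0) (hw : (pol z l).eval w = (pol z l).eval y) :
    ∃! k : Fin l, w = orb z k y := by
  classical
  refine existsUnique_of_exists_of_unique ?_ fun k m hk hm =>
    Fin.ext (orb_injOn hl hy k.2 m.2 (hk.symm.trans hm))
  by_contra hne
  push Not at hne
  let q : D[X] := pol z l - C ((pol z l).eval y)
  have hl0 : 0 < l := (Fact.out : l.Prime).pos
  have hq : q.natDegree = l := by
    rw [natDegree_sub_C, natDegree_pol]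
  have hq0 : q ≠ 0 := fun h => by rw [h, natDegree_zero] at hq; omega
  let S : Finset D := insert w ((univ : Finset (Fin l)).image fun k : Fin l => orb z k y)
  have hS : S.card = l + 1 := by
    rw [card_insert_of_notMem (by simpa using fun k h => hne k h.symm),
      card_image_of_injective _ fun k m h => Fin.ext (orb_injOn hl hy k.2 m.2 h)]
    simp
  have := card_le_degree_of_subset_roots (p := q) (Z := S) (fun x hx => by
    rw [mem_roots hq0]
    simp only [S, mem_val, mem_insert, mem_image, mem_univ, true_and] at hx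
    rcases hx with rfl | ⟨k, rfl⟩
    · simp [q, hw]
    · simp [q, eval_pol_orb hl])
  omega

theorem dvd_eval_pol (z : D) {l : ℕ} (hl : 2 ≤ l) (x : D) : x * (x - 1) ∣ (pol z l).eval x := by
  obtain ⟨m, rfl⟩ : ∃ m, l = m + 2 := ⟨l - 2, by omega⟩
  rw [eval_pol, prod_range_succ', prod_range_succ', gs_zero, zero_add, gs_one, sub_zero]
  exact ⟨∏ k ∈ range m, (x - gs z (k + 1 + 1)), by ring⟩

end Groth.L21.AicCoh
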