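import Groth.Agent.L27.NormalSepClosed.ConstSect
import Groth.Agent.L27.EtZar.Flasque
import Mathlib.Topology.LocallyConstant.Basic
import Mathlib.AlgebraicGeometry.PullbackCarrier

/-! # Sections of constant etale sheaves as locally constant functions -/

set_option autoImplicit false

universe u

open CategoryTheory CategoryTheory.Limits AlgebraicGeometry Opposite TopologicalSpace

set_option backward.isDefEq.respectTransparency.types false
set_option linter.style.haveILetI false

namespace Groth.L21.AicVal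

open Groth.L27 Groth.L27.ConstSect

variable {X : Scheme.{u}} {A : AddCommGrpCat.{u + 1}}

/-- The section is equal to the constant `a` near the point. -/
def HasVal {U : X.Etale} (s : (K A X).obj.obj (op U)) (x : U.left) (a : A) : Prop :=
  ∃ (W : X.Etale) (g : W ⟶ U) (w : W.left), g.left.base w = x ∧ (K A X).obj.map g.op s = cst A W a

theorem exists_hasVal {U : X.Etale} (s : (K A X).obj.obj (op U)) (x : U.left) : ∃ a, HasVal s x a := by
  obtain ⟨W, g, w, a, hw, e⟩ := exists_locally_cst A s x
  exact ⟨a, W, g, w, hw, e⟩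

theorem hasVal_common {U : X.Etale} {s t : (K A X).obj.obj (op U)} {x : U.left} {a b : A}
    (ha : HasVal s x a) (hb : HasVal t x b) : ∃ (W : X.Etale) (g : W ⟶ U) (w : W.left),
      g.left.base w = x ∧ (K A X).obj.map g.op s = cst A W a ∧ (K A X).obj.map g.op t = cst A W b := by
  obtain ⟨W, g, w, hw, e⟩ := ha
  obtain ⟨W', g', w', hw', e'⟩ := hb
  obtain ⟨T, p, q, v, hp, hq, hpq⟩ := EtSite.exists_common g g' w w' (hw.trans hw'.symm)
  refine ⟨T, p ≫ g, v, ?_, ?_, ?_⟩
  · rw [← hw, ← hp]; rfl
  · rw [op_comp, Functor.map_comp_apply, e, map_cst]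
  · rw [hpq, op_comp, Functor.map_comp_apply, e', map_cst]

theorem hasVal_unique {U : X.Etale} {s : (K A X).obj.obj (op U)} {x : U.left} {a b : A}
    (ha : HasVal s x a) (hb : HasVal s x b) : a = b := by
  obtain ⟨W, g, w, -, e, e'⟩ := hasVal_common ha hb
  haveI : Nonempty W.left := ⟨w⟩
  exact cst_injective A W (e.symm.trans e')

/-- The value of a section at a point. -/
noncomputable def val {U : X.Etale} (s : (K A X).obj.obj (op U)) (x : U.left) : A := (exists_hasVal s x).choose

theorem val_spec {U : X.Etale} (s : (K A X).obj.obj (op U)) (x : U.left) : HasVal s x (val s x) :=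
  (exists_hasVal s x).choose_spec

theorem val_eq {U : X.Etale} {s : (K A X).obj.obj (op U)} {x : U.left} {a : A} (h : HasVal s x a) :
    val s x = a :=
  hasVal_unique (val_spec s x) h

theorem val_cst {U : X.Etale} (a : A) (x : U.left) : val (cst A U a) x = a :=
  val_eq ⟨U, 𝟙 U, x, rfl, map_cst A _ a⟩

theorem val_sub {U : X.Etale} (s t : (K A X).obj.obj (op U)) (x : U.left) :
    val (s - t) x = val s x - val t x := by
  obtain ⟨W, g, w, hw, e, e'⟩ := hasVal_common (val_spec s x) (val_spec t x)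
  exact val_eq ⟨W, g, w, hw, by rw [map_sub, e, e', map_sub]⟩

theorem val_zero {U : X.Etale} (x : U.left) : val (0 : (K A X).obj.obj (op U)) x = 0 :=
  val_eq ⟨U, 𝟙 U, x, rfl, by rw [map_zero, map_zero]⟩

theorem val_map {U V : X.Etale} (g : V ⟶ U) (s : (K A X).obj.obj (op U)) (y : V.left) :
    val ((K A X).obj.map g.op s) y = val s (g.left.base y) := by
  obtain ⟨W, h, w, hw, e⟩ := val_spec ((K A X).obj.map g.op s) y
  refine (val_eq ⟨W, h ≫ g, w, ?_, ?_⟩).symm
  · rw [← hw]; rfl
  · rw [op_comp, Functor.map_comp_apply, e]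

theorem val_ext {U : X.Etale} {s t : (K A X).obj.obj (op U)} (h : ∀ x, val s x = val t x) : s = t :=
  EtSite.ext_of_locally (K A X) fun x => by
    obtain ⟨W, g, w, hw, e, e'⟩ := hasVal_common (val_spec s x) (val_spec t x)
    exact ⟨W, g, w, hw, by rw [e, e', h x]⟩

theorem isLocallyConstant_val {U : X.Etale} (s : (K A X).obj.obj (op U)) : IsLocallyConstant (val s) := by
  refine IsLocallyConstant.iff_exists_open _ |>.2 fun x => ?_
  obtain ⟨W, g, w, hw, e⟩ := val_spec s x
  haveI : AlgebraicGeometry.Etale g.left := EtSite.etale_left g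
  refine ⟨Set.range g.left.base, g.left.isOpenMap.isOpen_range, ⟨w, hw⟩, ?_⟩
  rintro _ ⟨v, rfl⟩
  rw [← val_map g s v, e, val_cst]

theorem exists_val_eq (U : X.Etale) (c : U.left → A) (hc : IsLocallyConstant c) :
    ∃ s : (K A X).obj.obj (op U), ∀ x, val s x = c x := by
  haveI : AlgebraicGeometry.Etale U.hom := U.prop
  let O : Set.range c → U.left.Opens := fun a => ⟨c ⁻¹' {a.1}, hc.isOpen_fiber _⟩
  let V : Set.range c → X.Etale := fun a => Scheme.Etale.mk ((O a).ι ≫ U.hom)
  let g : ∀ a, V a ⟶ U := fun a => MorphismProperty.Over.homMk (O a).ι rfl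
  have hmem : Sieve.generate (Presieve.ofArrows V g) ∈ X.smallEtaleTopology U :=
    (EtSite.mem_topology_iff _).2 fun x => by
      let a : Set.range c := ⟨c x, x, rfl⟩
      obtain ⟨w, hw⟩ : x ∈ Set.range (O a).ι := by
        rw [Scheme.Opens.range_ι]; exact rfl
      exact ⟨V a, g a, w, ⟨_, 𝟙 _, g a, ⟨a⟩, Category.id_comp _⟩, hw⟩
  let H := (sheafCompose X.smallEtaleTopology (forget AddCommGrpCat.{u + 1})).obj (K A X)
  let t : ∀ a, (K A X).obj.obj (op (V a)) := fun a => cst A (V a) a.1
  have hcompat : Presieve.Arrows.Compatible H.obj g t := by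
    intro a b Z ga gb hab
    show (K A X).obj.map ga.op (cst A (V a) a.1) = (K A X).obj.map gb.op (cst A (V b) b.1)
    rw [map_cst, map_cst]
    rcases isEmpty_or_nonempty Z.left with hZ | ⟨⟨z⟩⟩
    · exact eq_of_isEmpty _ _ _ _
    · have h1 : (O a).ι (ga.left z) = (O b).ι (gb.left z) := congr($(hab).left z)
      have ha : c ((O a).ι (ga.left z)) = a.1 := ((O a).range_ι.subset ⟨_, rfl⟩)
      have hb : c ((O b).ι (gb.left z)) = b.1 := ((O b).range_ι.subset ⟨_, rfl⟩)
      rw [← ha, ← hb, h1]
  obtain ⟨s, hs, -⟩ := ((Presieve.isSheafFor_arrows_iff _ _).mp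
    ((Presieve.isSheafFor_iff_generate _).mpr
      ((isSheaf_iff_isSheaf_of_type _ _).1 H.property _ hmem))) t hcompat
  refine ⟨s, fun x => ?_⟩
  let a : Set.range c := ⟨c x, x, rfl⟩
  obtain ⟨w, hw⟩ : x ∈ Set.range (O a).ι := by
    rw [Scheme.Opens.range_ι]; exact rfl
  exact val_eq ⟨V a, g a, w, hw, hs a⟩

variable {Y : Scheme.{u}} (f : Y ⟶ X)

/-- The projection from the base change. -/
noncomputable abbrev pr (U : X.Etale) : ((EtCoh.bc f).obj U).left ⟶ U.left := pullback.fst U.hom f

theorem val_cmp (U : X.Etale) (s : (K A X).obj.obj (op U)) (y : ((EtCoh.bc f).obj U).left) :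
    val (X := Y) (A := A) (U := (EtCoh.bc f).obj U) ((cmp A f).hom.app (op U) s) y =
      val s ((pr f U).base y) := by
  obtain ⟨W, g, w, hw, e⟩ := val_spec s ((pr f U).base y)
  obtain ⟨q, hq1, hq2⟩ := Scheme.Pullback.exists_preimage_pullback (f := g.left) (g := pr f U) w y hw
  have hc : (pullback.fst g.left (pr f U)) ≫ W.hom =
      (pullback.snd g.left (pr f U) ≫ pullback.snd U.hom f) ≫ f := by
    rw [show W.hom = g.left ≫ U.hom from (MorphismProperty.Over.w g).symm, pullback.condition_assoc]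
    exact (congrArg (pullback.snd g.left (pr f U) ≫ ·) (pullback.condition (f := U.hom) (g := f))).trans
      (Category.assoc _ _ _).symm
  let l : pullback g.left (pr f U) ⟶ ((EtCoh.bc f).obj W).left :=
    pullback.lift (f := W.hom) (g := f) _ _ hc
  have hl : l ≫ ((EtCoh.bc f).map g).left = pullback.snd g.left (pr f U) := by
    apply pullback.hom_ext
    · refine (Category.assoc _ _ _).trans ((congrArg (l ≫ ·) (pullback.lift_fst _ _ _)).trans ?_)
      exact (Category.assoc _ _ _).symm.trans
        ((congrArg (· ≫ g.left) (pullback.lift_fst _ _ _)).trans pullback.condition)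
    · exact (Category.assoc _ _ _).trans ((congrArg (l ≫ ·) (pullback.lift_snd _ _ _)).trans
        (pullback.lift_snd _ _ _))
  refine val_eq ⟨(EtCoh.bc f).obj W, (EtCoh.bc f).map g, l q, ?_, ?_⟩
  · rw [← Scheme.Hom.comp_apply, hl, hq2]
  · show ((EtCoh.push f).obj (K A Y)).obj.map g.op _ = _
    rw [← NatTrans.naturality_apply, e, cmp_cst]

end Groth.L21.AicVal
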